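import Cfsg.Agent.Lib.CharDeep.Cover
import Cfsg.Agent.Lib.Char.GaloisConj
import Cfsg.Agent.Lib.Blk83.ItoMichler
import Cfsg.Agent.Lib.OddChar.AbelInertia
import Cfsg.Agent.S0867
import Mathlib

/-!
Canonical extensions have values in the field of the normal subgroup's roots of unity.
-/

set_option autoImplicit false
set_option linter.style.haveILetI false

open scoped Classical

namespace CfsgLib.PSolvSchur

open Cfsg CfsgLib

universe u

/-- A character fixed by the powers congruent to one has values in the small cyclotomic field. -/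
theorem mem_adjoin_of_pow_fixed {P : Type u} [Group P] [Finite P] {f : P → ℂ}
    (hf : Cfsg.IsCharacter P f) {r : ℕ} (hr : r ∣ Nat.card P)
    (h : ∀ k : ℕ, k.Coprime (Nat.card P) → k ≡ 1 [MOD r] → ∀ g, f (g ^ k) = f g) (g : P) :
    f g ∈ IntermediateField.adjoin ℚ ({Complex.exp (2 * Real.pi * Complex.I / r)} : Set ℂ) := by
  set N := Nat.card P with hN'
  have hN : 0 < N := Nat.card_pos
  obtain ⟨c, hc⟩ := hr
  have hr0 : r ≠ 0 := by
    rintro rfl
    rw [zero_mul] at hc
    exact hN.ne' hc
  set η := Complex.exp (2 * Real.pi * Complex.I / r) with hη'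
  set ζ := Complex.exp (2 * Real.pi * Complex.I / N)
  have hζ : IsPrimitiveRoot ζ N := Complex.isPrimitiveRoot_exp N hN.ne'
  have hη : IsPrimitiveRoot η r := Complex.isPrimitiveRoot_exp r hr0
  have hc0 : c ≠ 0 := fun h0 => by rw [h0, mul_zero] at hc; exact hN.ne' hc
  have hζc : ζ ^ c = η := by
    rw [← Complex.exp_nat_mul, hη']
    congr 1
    rw [hc]
    have h1 : (r : ℂ) ≠ 0 := Nat.cast_ne_zero.mpr hr0
    have h2 : (c : ℂ) ≠ 0 := Nat.cast_ne_zero.mpr hc0
    push_cast
    field_simp
  haveI : NeZero N := ⟨hN.ne'⟩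
  set M := IntermediateField.adjoin ℚ ({η} : Set ℂ)
  have hηM : η ∈ M := IntermediateField.mem_adjoin_simple_self ℚ η
  set L := IntermediateField.adjoin M ({ζ} : Set ℂ)
  have hζL : ζ ∈ L := IntermediateField.mem_adjoin_simple_self M ζ
  have hint : IsIntegral M ζ :=
    IsIntegral.of_pow hN (by rw [hζ.pow_eq_one]; exact isIntegral_one)
  haveI : FiniteDimensional M L := IntermediateField.adjoin.finiteDimensional hint
  obtain ⟨n, ρ, rfl⟩ := hf
  obtain ⟨μ, hμ, -, -, hpow⟩ := CfsgLib.Char.exists_eigenvalues ρ g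
  have hμN : ∀ i, μ i ^ N = 1 := fun i => by
    obtain ⟨d, hd⟩ := orderOf_dvd_natCard g
    rw [hN', hd, pow_mul, hμ, one_pow]
  choose e he hee using fun i => hζ.eq_pow_of_pow_eq_one (hμN i)
  have hval : ∀ k : ℕ, ρ.character (g ^ k) = ∑ i, (ζ ^ e i) ^ k := fun k => by
    rw [hpow k]; simp [hee]
  set x := ρ.character g with hx'
  have hx : x = ∑ i, ζ ^ e i := by
    have := hval 1
    simpa using this
  have hxL : x ∈ L := by rw [hx]; exact sum_mem fun i _ => pow_mem hζL _
  set E := IntermediateField.adjoin M ({x} : Set ℂ)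
  have hEL : E ≤ L := IntermediateField.adjoin_simple_le_iff.2 hxL
  haveI : FiniteDimensional M E :=
    FiniteDimensional.of_injective (IntermediateField.inclusion hEL).toLinearMap
      (IntermediateField.inclusion hEL).injective
  haveI : Subsingleton (E →ₐ[M] ℂ) := by
    suffices key : ∀ σ : E →ₐ[M] ℂ, σ ⟨x, IntermediateField.mem_adjoin_simple_self M x⟩ = x by
      refine ⟨fun σ τ => IntermediateField.algHom_ext_of_eq_adjoin M (S := E) rfl fun y hy => ?_⟩
      obtain rfl := Set.mem_singleton_iff.1 hy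
      exact (key σ).trans (key τ).symm
    intro σ
    obtain ⟨φ, hφ⟩ := IntermediateField.exists_algHom_adjoin_of_splits (S := ({ζ} : Set ℂ))
      (fun s hs => ⟨by rw [Set.mem_singleton_iff.1 hs]; exact hint,
        IsAlgClosed.splits _⟩) σ hEL
    have hroot : IsPrimitiveRoot (φ ⟨ζ, hζL⟩) N := by
      refine IsPrimitiveRoot.map_of_injective (f := φ) ?_ φ.injective
      exact IsPrimitiveRoot.of_map_of_injective (f := L.val) hζ L.val.injective
    obtain ⟨k, -, hk, hke⟩ := hζ.isPrimitiveRoot_iff.1 hroot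
    have hkr : k ≡ 1 [MOD r] := by
      have h1 : φ (⟨ζ, hζL⟩ ^ c) = η := by
        rw [show (⟨ζ, hζL⟩ : L) ^ c = algebraMap M L ⟨η, hηM⟩ from Subtype.ext (by simpa using hζc),
          AlgHom.commutes]
        rfl
      rw [map_pow, ← hke, ← pow_mul, mul_comm, pow_mul, hζc] at h1
      rw [hη.eq_orderOf, ← (hη.isOfFinOrder hr0).pow_eq_pow_iff_modEq, h1, pow_one]
    refine (DFunLike.congr_fun hφ _).symm.trans ?_
    show φ (IntermediateField.inclusion hEL ⟨x, _⟩) = _
    have hsum : (IntermediateField.inclusion hEL)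
        ⟨x, IntermediateField.mem_adjoin_simple_self M x⟩ = ∑ i, (⟨ζ, hζL⟩ : L) ^ e i := by
      refine Subtype.ext ?_
      rw [IntermediateField.coe_inclusion, AddSubmonoidClass.coe_finsetSum]
      exact hx
    rw [hsum, map_sum, hx', ← h k hk hkr g, hval]
    refine Finset.sum_congr rfl fun i _ => ?_
    rw [map_pow, ← hke, ← pow_mul, ← pow_mul, mul_comm]
  have h1 : Module.finrank M E = 1 := by
    refine le_antisymm ?_ Module.finrank_pos
    rw [← AlgHom.card M E ℂ]
    exact Fintype.card_le_one_iff_subsingleton.2 inferInstance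
  have hbot : E = ⊥ := IntermediateField.finrank_eq_one_iff.1 h1
  have hxE : x ∈ E := IntermediateField.mem_adjoin_simple_self M x
  rw [hbot, IntermediateField.mem_bot] at hxE
  obtain ⟨y, hy⟩ := hxE
  rw [← hy]
  exact y.2

/-- A representation with irreducible character is irreducible. -/
theorem isIrreducible_of_char {H : Type u} [Group H] [Finite H] {n : ℕ}
    (σ : Representation ℂ H (Fin n → ℂ)) (h : Cfsg.IsIrrCharacter H σ.character) :
    σ.IsIrreducible := by
  cases nonempty_fintype H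
  obtain ⟨m, τ, hτ, hτc⟩ := h
  have hf : Module.finrank ℂ (Representation.IntertwiningMap τ σ) = 1 := by
    have h1 : Cfsg.classInner σ.character τ.character = 1 := by
      rw [← hτc]; exact Char.classInner_irr_self (Char.isIrrCharacter_character τ)
    rw [Char.classInner_character] at h1
    exact_mod_cast h1
  have : Nontrivial (Representation.IntertwiningMap τ σ) :=
    Module.nontrivial_of_finrank_pos (R := ℂ) (by omega)
  obtain ⟨f, hfne⟩ := exists_ne (0 : Representation.IntertwiningMap τ σ)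
  have hinj := (Representation.IsIrreducible.injective_or_eq_zero f).resolve_right hfne
  have hdim : Module.finrank ℂ (Fin m → ℂ) = Module.finrank ℂ (Fin n → ℂ) := by
    have := congrFun hτc 1
    simpa using this
  exact Char.isIrreducible_of_equiv (f.ofBijective
    ⟨hinj, (LinearMap.injective_iff_surjective_of_finrank_eq_finrank hdim
      (f := f.toLinearMap)).1 hinj⟩)

/-- The determinantal order does not grow under an automorphism of `ℂ`. -/
theorem detOrder_map_dvd {T : Type u} [Group T] [Finite T] (τ : ℂ ≃+* ℂ) {χ : T → ℂ}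
    (hχ : Cfsg.IsIrrCharacter T χ) (hirr : Cfsg.IsIrrCharacter T (fun g => τ (χ g))) :
    detOrder (fun g => τ (χ g)) ∣ detOrder χ := by
  obtain ⟨n, ρ, hρ, rfl⟩ := hχ
  let m : T →* Matrix (Fin n) (Fin n) ℂ :=
    (τ.toRingHom.mapMatrix (m := Fin n)).toMonoidHom.comp
      ((LinearMap.toMatrixAlgEquiv' (R := ℂ) (n := Fin n)).toMonoidHom.comp ρ)
  let σ : Representation ℂ T (Fin n → ℂ) :=
    (Matrix.toLinAlgEquiv' (R := ℂ) (n := Fin n)).toMonoidHom.comp m
  have hσc : σ.character = fun g => τ (ρ.character g) := by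
    funext g
    simp only [Representation.character, LinearMap.trace_eq_matrix_trace ℂ (Pi.basisFun ℂ (Fin n))]
    rw [Matrix.trace, Matrix.trace, map_sum]
    simp [σ, m, Matrix.toLinAlgEquiv'_apply, LinearMap.toMatrixAlgEquiv'_apply,
      LinearMap.toMatrix_apply]
  haveI := isIrreducible_of_char σ (hσc.symm ▸ hirr)
  have hdet : ∀ g, LinearMap.det (σ g) = τ (LinearMap.det (ρ g)) := by
    intro g
    rw [← LinearMap.det_toMatrix', ← LinearMap.det_toMatrix']
    show (LinearMap.toMatrix' (Matrix.toLin' (τ.toRingHom.mapMatrix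
      (LinearMap.toMatrix' (ρ g))))).det = _
    rw [LinearMap.toMatrix'_toLin', ← RingHom.map_det]
    rfl
  unfold detOrder
  rw [← hσc, CharDeep.Cover.detChar_eq, CharDeep.Cover.detChar_eq]
  refine orderOf_dvd_of_pow_eq_one (funext fun g => ?_)
  have h1 := congrFun (pow_orderOf_eq_one (fun g => LinearMap.det (ρ g))) g
  simp only [Pi.pow_apply, Pi.one_apply] at h1 ⊢
  rw [hdet, ← map_pow, h1, map_one]

/-- An invariant character of a normal Hall subgroup of prime power index extends to a character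
with values in the cyclotomic field of the order of the subgroup. -/
theorem exists_rational_ext {T : Type u} [Group T] [Finite T] (N : Subgroup T) [hN : N.Normal]
    {θ : N → ℂ} (hθ : Cfsg.IsIrrCharacter N θ)
    (hinv : ∀ (g : T) (n : N), θ ⟨g * n * g⁻¹, hN.conj_mem (n : T) n.2 g⟩ = θ n)
    (hcop : (Nat.card N).Coprime N.index) :
    ∃ χ : T → ℂ, Cfsg.IsCharacter T χ ∧ (∀ n : N, χ n = θ n) ∧ ∀ g : T, χ g ∈
      IntermediateField.adjoin ℚ ({Complex.exp (2 * Real.pi * Complex.I / (Nat.card N : ℕ))} :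
        Set ℂ) := by
  cases nonempty_fintype N
  obtain ⟨d, -, hd⟩ := Char.IsIrrCharacter.exists_degree hθ
  have hdd : d ∣ Nat.card N := by
    have h := Blk83.deg_dvd (⟨θ, hθ⟩ : Cfsg.IrrCharacter N)
    rwa [show Cfsg.charDegree θ = d by simp [Cfsg.charDegree, hd]] at h
  obtain ⟨δ, hδ⟩ := CharDeep.Extend.exists_det_hom N θ hθ
  have hdet : detOrder θ ∣ Nat.card N := by
    rw [detOrder, hδ, CharDeep.Lin.orderOf_coe]
    refine orderOf_dvd_of_pow_eq_one (MonoidHom.ext fun k => ?_)
    rw [MonoidHom.pow_apply, ← map_pow, pow_card_eq_one', map_one, MonoidHom.one_apply]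
  have h1 : Nat.Coprime N.index (detOrder θ * d) :=
    Nat.Coprime.mul_right (hcop.symm.coprime_dvd_right hdet) (hcop.symm.coprime_dvd_right hdd)
  obtain ⟨χ, ⟨hχ, hres, hord⟩, huniq⟩ := Cfsg.Agent.S0867.result N θ hθ hinv d hd h1
  refine ⟨χ, Char.IsIrrCharacter.isCharacter hχ, hres, fun g => ?_⟩
  refine mem_adjoin_of_pow_fixed (Char.IsIrrCharacter.isCharacter hχ)
    (Subgroup.card_subgroup_dvd_card N) (fun k hk hkN g => ?_) g
  obtain ⟨τ, hτ⟩ := CharGalois.exists_ringEquiv_pow Nat.card_pos hk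
  have hconj : (fun g => χ (g ^ k)) = fun g => τ (χ g) := by
    funext g
    obtain ⟨n, ρ, -, rfl⟩ := hχ
    obtain ⟨μ, hμ, -, -, hpow⟩ := CfsgLib.Char.exists_eigenvalues ρ g
    have h1 := hpow 1
    simp only [pow_one] at h1
    rw [hpow k, h1, map_sum]
    refine Finset.sum_congr rfl fun i _ => (hτ _ ?_).symm
    obtain ⟨c, hc⟩ := orderOf_dvd_natCard g
    rw [hc, pow_mul, hμ, one_pow]
  have hirr := CharGalois.isIrrCharacter_powMap hk hχ
  refine congrFun (huniq _ hirr (fun n => ?_) ?_) g
  · rw [← Subgroup.coe_pow, hres]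
    congr 1
    rw [pow_eq_pow_iff_modEq.2 (hkN.of_dvd (orderOf_dvd_natCard n)), pow_one]
  · have hdvd : detOrder (fun g => χ (g ^ k)) ∣ detOrder χ := by
      rw [hconj] at hirr ⊢
      exact detOrder_map_dvd τ hχ hirr
    exact h1.coprime_mul_right_right.coprime_dvd_right (hord ▸ hdvd)

end CfsgLib.PSolvSchur
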