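import Cfsg.Agent.Lib.PSolvSchur.Rational
import Cfsg.Agent.Lib.Char.SchurBound
import Cfsg.Agent.Lib.Char.Clifford
import Cfsg.Agent.Lib.Char.Induced
import Mathlib

/-!
The Schur bound modulo a normal subgroup of a group with normal `p`-complement having a faithful
character.
-/

set_option autoImplicit false
set_option linter.style.haveILetI false

open scoped Classical

namespace CfsgLib.PSolvSchur

open Cfsg CfsgLib CfsgLib.CharTwist

universe u

/-- The bound of Schur is monotone. -/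
theorem sum_div_mono {p a b : ℕ} (h : a ≤ b) :
    ∑ i ∈ Finset.range (a + 1), a / ((p - 1) * p ^ i) ≤
      ∑ i ∈ Finset.range (b + 1), b / ((p - 1) * p ^ i) :=
  (Finset.sum_le_sum fun _ _ => Nat.div_le_div_right h).trans
    (Finset.sum_le_sum_of_subset (Finset.range_subset_range.2 (by omega)))

/-- A character of degree and value equal has every value equal to the degree. -/
theorem eq_degree_of_sum_eq {ι : Type*} (s : Finset ι) (d : ι → ℕ) (v : ι → ℂ)
    (hv : ∀ i ∈ s, ‖v i‖ ≤ (d i : ℝ)) (h : ∑ i ∈ s, v i = ∑ i ∈ s, (d i : ℂ)) :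
    ∀ i ∈ s, v i = d i := by
  intro i hi
  have h1 := congrArg Complex.re h
  rw [Complex.re_sum, Complex.re_sum] at h1
  have h2 : (v i).re = (d i : ℝ) := by
    have hle : ∀ j ∈ s, (v j).re ≤ ((d j : ℂ)).re := fun j hj => by
      rw [Complex.natCast_re]
      exact (Complex.re_le_norm _).trans (hv j hj)
    simpa using (Finset.sum_eq_sum_iff_of_le hle).1 h1 i hi
  have h3 : (v i).re * (v i).re + (v i).im * (v i).im ≤ (d i : ℝ) * d i := by
    rw [← Complex.normSq_apply, Complex.normSq_eq_norm_sq, sq]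
    exact mul_self_le_mul_self (norm_nonneg _) (hv i hi)
  rw [h2] at h3
  have h4 : (v i).im = 0 := by nlinarith
  exact Complex.ext (by simpa using h2) (by simpa using h4)

variable {X : Type u} [Group X] [Finite X] {p : ℕ}

/-- The bound with the kernel of an auxiliary rational character. -/
theorem exists_normal_bound [hp : Fact p.Prime] (H : Subgroup X) [H.Normal] {m : ℕ}
    (hm : H.index = p ^ m) (hH : (Nat.card H).Coprime p) {χ : X → ℂ}
    (hχ : Cfsg.IsCharacter X χ) (hfaith : ∀ h : X, h ∈ H → χ h = χ 1 → h = 1)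
    {n : ℕ} (hn : χ 1 = n) :
    ∃ N : Subgroup X, N.Normal ∧ H ⊓ N = ⊥ ∧
      N.index.factorization p ≤ ∑ i ∈ Finset.range (n + 1), n / ((p - 1) * p ^ i) := by
  letI := Fintype.ofFinite X
  have hres : Cfsg.IsCharacter H (fun h : H => χ h) := Clifford.isCharacter_res hχ H
  obtain ⟨mult, hmult⟩ := Char.IsCharacter.exists_nat_combination hres
  let C : Finset (Cfsg.IrrCharacter H) := Finset.univ.filter fun θ => mult θ ≠ 0
  have hconjC : ∀ θ ∈ C, ∀ g : X, ∀ η : Cfsg.IrrCharacter H,
      (η : H → ℂ) = conjFun H (θ : H → ℂ) g → η ∈ C := by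
    intro θ hθ g η hη
    simp only [C, Finset.mem_filter, Finset.mem_univ, true_and] at hθ ⊢
    intro h0
    have h1 := Clifford.classInner_res_conjFun H (Char.IsCharacter.isClassFunction hχ)
      (θ : H → ℂ) g
    rw [← hη, hmult, Char.classInner_sum_smul_irr, Char.classInner_sum_smul_irr, h0] at h1
    exact hθ (by exact_mod_cast h1.symm)
  let cls : Cfsg.IrrCharacter H → Finset (H → ℂ) := fun θ => Clifford.orbit H (θ : H → ℂ)
  have hcls : ∀ θ η : Cfsg.IrrCharacter H, (η : H → ℂ) ∈ cls θ → cls η = cls θ := by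
    intro θ η hη
    obtain ⟨g, hg⟩ := (Clifford.mem_orbit H).1 hη
    ext f
    simp only [cls, Clifford.mem_orbit, ← hg]
    constructor
    · rintro ⟨x, rfl⟩
      exact ⟨g * x, conjFun_mul H _ g x⟩
    · rintro ⟨x, rfl⟩
      exact ⟨g⁻¹ * x, by rw [← conjFun_mul, mul_inv_cancel_left]⟩
  -- one representative of each orbit
  let R : Finset (Cfsg.IrrCharacter H) := (C.image cls).attach.image fun o =>
    (Finset.mem_image.1 o.2).choose
  have hRC : ∀ θ ∈ R, θ ∈ C := by
    intro θ hθ
    obtain ⟨o, -, rfl⟩ := Finset.mem_image.1 hθ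
    exact (Finset.mem_image.1 o.2).choose_spec.1
  have hRinj : ∀ θ ∈ R, ∀ η ∈ R, cls θ = cls η → θ = η := by
    intro θ hθ η hη h
    obtain ⟨o, -, rfl⟩ := Finset.mem_image.1 hθ
    obtain ⟨o', -, rfl⟩ := Finset.mem_image.1 hη
    have := (Finset.mem_image.1 o.2).choose_spec.2.symm.trans
      (h.trans (Finset.mem_image.1 o'.2).choose_spec.2)
    rw [Subtype.ext this]
  have hRsurj : ∀ η ∈ C, ∃ θ ∈ R, cls η = cls θ := by
    intro η hη
    have ho : cls η ∈ C.image cls := Finset.mem_image_of_mem _ hη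
    exact ⟨(Finset.mem_image.1 ho).choose,
      Finset.mem_image.2 ⟨⟨cls η, ho⟩, Finset.mem_attach _ _, rfl⟩,
      (Finset.mem_image.1 ho).choose_spec.2.symm⟩
  -- the canonical extensions
  let r := Nat.card H
  let F := IntermediateField.adjoin ℚ ({Complex.exp (2 * Real.pi * Complex.I / r)} : Set ℂ)
  have hext : ∀ θ : Cfsg.IrrCharacter H, ∃ φ : inertia H (θ : H → ℂ) → ℂ,
      Cfsg.IsCharacter (inertia H (θ : H → ℂ)) φ ∧
      (∀ (h : X) (hh : h ∈ H) (hh' : h ∈ inertia H (θ : H → ℂ)),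
        φ ⟨h, hh'⟩ = (θ : H → ℂ) ⟨h, hh⟩) ∧ ∀ t, φ t ∈ F := by
    intro θ
    have hle : H ≤ inertia H (θ : H → ℂ) :=
      le_inertia H (Char.IsIrrCharacter.isClassFunction θ.2)
    let e := Subgroup.subgroupOfEquivOfLe hle
    have hθ' : Cfsg.IsIrrCharacter (H.subgroupOf (inertia H (θ : H → ℂ)))
        ((θ : H → ℂ) ∘ e) := CharTwist.isIrrCharacter_comp_equiv θ.2 e
    have hcard : Nat.card (H.subgroupOf (inertia H (θ : H → ℂ))) = r := Nat.card_congr e.toEquiv
    have hcop : (Nat.card (H.subgroupOf (inertia H (θ : H → ℂ)))).Coprime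
        (H.subgroupOf (inertia H (θ : H → ℂ))).index := by
      rw [hcard]
      refine Nat.Coprime.coprime_dvd_right ?_ (hH.pow_right m)
      rw [← hm]
      exact Subgroup.relIndex_dvd_index_of_normal H _
    obtain ⟨φ, hφ, hφres, hφF⟩ := exists_rational_ext (H.subgroupOf (inertia H (θ : H → ℂ)))
      hθ' (fun g n => congrFun (mem_inertia.1 g.2) (e n)) hcop
    refine ⟨φ, hφ, fun h hh hh' => hφres ⟨⟨h, hh'⟩, hh⟩, fun t => ?_⟩
    have := hφF t
    rwa [hcard] at this
  choose φ hφ hφres hφF using hext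
  let ψ : X → ℂ := ∑ θ ∈ R, Cfsg.indFun (inertia H (θ : H → ℂ)) (φ θ)
  have hψ : Cfsg.IsCharacter X ψ :=
    Char.IsCharacter.sum R _ fun θ _ => Char.IsCharacter.indFun _ (hφ θ)
  let deg : Cfsg.IrrCharacter H → ℕ := fun θ => Char.degree (θ : H → ℂ)
  have hdeg : ∀ θ : Cfsg.IrrCharacter H, (θ : H → ℂ) 1 = deg θ := fun θ =>
    (Char.IsCharacter.degree_cast (Char.IsIrrCharacter.isCharacter θ.2)).symm
  have hindle : ∀ θ : Cfsg.IrrCharacter H, H ≤ inertia H (θ : H → ℂ) := fun θ =>
    le_inertia H (Char.IsIrrCharacter.isClassFunction θ.2)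
  have hφ1 : ∀ θ : Cfsg.IrrCharacter H, φ θ 1 = deg θ := fun θ => by
    rw [← hdeg]
    exact hφres θ 1 H.one_mem (one_mem _)
  -- the degree
  have hψ1 : ψ 1 = ((∑ θ ∈ R, (cls θ).card * deg θ : ℕ) : ℂ) := by
    rw [Nat.cast_sum]
    simp only [ψ, Finset.sum_apply]
    refine Finset.sum_congr rfl fun θ _ => ?_
    rw [Char.indFun_apply_one, hφ1, Nat.cast_mul]
    congr 2
    exact (Clifford.card_orbit H (θ : H → ℂ)).symm
  have hdegle : (∑ θ ∈ R, (cls θ).card * deg θ) ≤ n := by
    have hconst : ∀ θ : Cfsg.IrrCharacter H, ∀ η : Cfsg.IrrCharacter H, (η : H → ℂ) ∈ cls θ →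
        deg η = deg θ := by
      intro θ η hη
      obtain ⟨g, hg⟩ := (Clifford.mem_orbit H).1 hη
      have h1 : (η : H → ℂ) 1 = (θ : H → ℂ) 1 := by
        rw [← hg, conjFun_eq_comp, Function.comp_apply, map_one]
      rw [hdeg, hdeg] at h1
      exact_mod_cast h1
    have hcard : ∀ θ ∈ R, (cls θ).card * deg θ = ∑ η ∈ C.filter (fun η => cls η = cls θ), deg η := by
      intro θ hθ
      have hmem : ∀ η ∈ C.filter (fun η => cls η = cls θ), (η : H → ℂ) ∈ cls θ := fun η hη => by
        rw [← (Finset.mem_filter.1 hη).2]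
        exact Clifford.self_mem_orbit H _
      rw [Finset.sum_congr rfl (g := fun _ => deg θ) (fun η hη => hconst θ η (hmem η hη)),
        Finset.sum_const, smul_eq_mul]
      congr 1
      refine (Finset.card_bij (fun (η : Cfsg.IrrCharacter H) _ => (η : H → ℂ)) ?_ ?_ ?_).symm
      · exact hmem
      · exact fun _ _ _ _ h => Subtype.ext h
      · intro f hf
        obtain ⟨g, rfl⟩ := (Clifford.mem_orbit H).1 hf
        exact ⟨⟨_, isIrrCharacter_conjFun H θ.2 g⟩, Finset.mem_filter.2
          ⟨hconjC θ (hRC θ hθ) g _ rfl, hcls θ _ hf⟩, rfl⟩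
    rw [Finset.sum_congr rfl hcard]
    calc ∑ θ ∈ R, ∑ η ∈ C.filter (fun η => cls η = cls θ), deg η
        = ∑ o ∈ R.image cls, ∑ η ∈ C.filter (fun η => cls η = o), deg η :=
          (Finset.sum_image (f := fun o => ∑ η ∈ C.filter (fun η => cls η = o), deg η)
            fun a ha b hb h => hRinj a ha b hb h).symm
      _ ≤ ∑ η ∈ C, deg η := Finset.sum_fiberwise_le_sum_of_sum_fiber_nonneg
            (fun _ _ => Nat.zero_le _)
      _ ≤ ∑ η ∈ C, mult η * deg η := Finset.sum_le_sum fun η hη =>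
            Nat.le_mul_of_pos_left _ (Nat.pos_of_ne_zero (Finset.mem_filter.1 hη).2)
      _ ≤ ∑ η, mult η * deg η := Finset.sum_le_sum_of_subset (Finset.subset_univ _)
      _ = n := by
          have h1 := congrFun hmult 1
          simp only [OneMemClass.coe_one, hn, Finset.sum_apply, Pi.smul_apply, smul_eq_mul,
            hdeg] at h1
          exact_mod_cast h1.symm
  -- the kernel
  obtain ⟨d, σ, hσ⟩ := hψ
  let N : Subgroup X := MonoidHom.ker (σ : X →* Module.End ℂ (Fin d → ℂ))
  haveI hNn : N.Normal := MonoidHom.normal_ker _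
  have hψN : ∀ g ∈ N, ψ g = ψ 1 := fun g hg => by
    rw [← hσ, Representation.char_one, Char.character_eq_degree_iff]
    exact hg
  refine ⟨N, hNn, ?_, ?_⟩
  · rw [eq_bot_iff]
    rintro h ⟨hh, hN⟩
    have key : ∀ θ ∈ R, ∀ g : X, (θ : H → ℂ) ⟨g * h * g⁻¹,
        Subgroup.Normal.conj_mem inferInstance h hh g⟩ = deg θ := by
      have hval : ∀ θ : Cfsg.IrrCharacter H, Cfsg.indFun (inertia H (θ : H → ℂ)) (φ θ) h =
          (Nat.card (inertia H (θ : H → ℂ)) : ℂ)⁻¹ * ∑ g : X, (θ : H → ℂ) ⟨g * h * g⁻¹,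
            Subgroup.Normal.conj_mem inferInstance h hh g⟩ := by
        intro θ
        rw [Char.indFun_apply]
        congr 1
        refine Fintype.sum_equiv (Equiv.inv X) _ _ fun x => ?_
        have hmem : x⁻¹ * h * x ∈ H := by
          simpa using Subgroup.Normal.conj_mem (H := H) inferInstance h hh x⁻¹
        rw [Char.extendByZero_apply_mem _ _ (hindle θ hmem),
          hφres θ _ hmem (hindle θ hmem)]
        exact congrArg _ (Subtype.ext (by simp))
      have h1 : ∑ q ∈ R ×ˢ (Finset.univ : Finset X),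
          (Nat.card (inertia H (q.1 : H → ℂ)) : ℂ)⁻¹ * ((deg q.1 : ℂ) - (q.1 : H → ℂ)
            ⟨q.2 * h * q.2⁻¹, Subgroup.Normal.conj_mem inferInstance h hh q.2⟩) = 0 := by
        have h2 : ψ h = ψ 1 := hψN h hN
        simp only [ψ, Finset.sum_apply] at h2
        rw [← sub_eq_zero.2 h2.symm, ← Finset.sum_sub_distrib, Finset.sum_product]
        refine Finset.sum_congr rfl fun θ _ => ?_
        dsimp only
        rw [hval, Char.indFun_apply_one, hφ1, ← Finset.mul_sum, Finset.sum_sub_distrib,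
          Finset.sum_const, Finset.card_univ, ← Nat.card_eq_fintype_card, nsmul_eq_mul, mul_sub]
        congr 1
        rw [← Subgroup.card_mul_index (inertia H (θ : H → ℂ)), Nat.cast_mul]
        field_simp [(Nat.cast_ne_zero.mpr Nat.card_pos.ne' :
          (Nat.card (inertia H (θ : H → ℂ)) : ℂ) ≠ 0)]
      intro θ hθ g
      have hnn : ∀ q ∈ R ×ˢ (Finset.univ : Finset X),
          0 ≤ ((Nat.card (inertia H (q.1 : H → ℂ)) : ℂ)⁻¹ * ((deg q.1 : ℂ) - (q.1 : H → ℂ)
            ⟨q.2 * h * q.2⁻¹, Subgroup.Normal.conj_mem inferInstance h hh q.2⟩)).re := by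
        intro q _
        rw [← Complex.ofReal_natCast, ← Complex.ofReal_inv, Complex.re_ofReal_mul,
          Complex.sub_re]
        refine mul_nonneg (inv_nonneg.2 (Nat.cast_nonneg _)) (sub_nonneg.2 ?_)
        rw [Complex.natCast_re]
        exact (Complex.re_le_norm _).trans
          (Char.IsCharacter.norm_apply_le (Char.IsIrrCharacter.isCharacter q.1.2) _)
      have h3 := congrArg Complex.re h1
      rw [Complex.re_sum, Complex.zero_re, Finset.sum_eq_zero_iff_of_nonneg hnn] at h3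
      have h4 := h3 (θ, g) (Finset.mem_product.2 ⟨hθ, Finset.mem_univ _⟩)
      rw [← Complex.ofReal_natCast, ← Complex.ofReal_inv, Complex.re_ofReal_mul,
        Complex.sub_re, mul_eq_zero, sub_eq_zero] at h4
      have h5 := h4.resolve_left (inv_ne_zero (Nat.cast_ne_zero.2 Nat.card_pos.ne'))
      refine eq_degree_of_sum_eq {()} (fun _ => deg θ) (fun _ => _) (fun _ _ =>
        Char.IsCharacter.norm_apply_le (Char.IsIrrCharacter.isCharacter θ.2) _) ?_ ()
        (Finset.mem_singleton_self _)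
      rw [Finset.sum_singleton, Finset.sum_singleton]
      refine Complex.ext h5.symm ?_
      have h6 := Char.IsCharacter.norm_apply_le (Char.IsIrrCharacter.isCharacter θ.2)
        (⟨g * h * g⁻¹, Subgroup.Normal.conj_mem inferInstance h hh g⟩ : H)
      rw [Complex.natCast_im]
      by_contra him
      have h7 := Complex.abs_re_lt_norm.2 him
      rw [← h5, Complex.natCast_re, abs_of_nonneg (Nat.cast_nonneg _)] at h7
      exact absurd h6 (not_le.2 h7)
    refine Subgroup.mem_bot.2 (hfaith h hh ?_)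
    have hcon : ∀ η ∈ C, (η : H → ℂ) ⟨h, hh⟩ = (η : H → ℂ) 1 := by
      intro η hη
      obtain ⟨θ, hθ, hθη⟩ := hRsurj η hη
      have hmem : (η : H → ℂ) ∈ cls θ := hθη ▸ Clifford.self_mem_orbit H _
      obtain ⟨g, hg⟩ := (Clifford.mem_orbit H).1 hmem
      rw [← hg]
      show (θ : H → ℂ) ⟨g * h * g⁻¹, _⟩ = conjFun H (θ : H → ℂ) g 1
      rw [key θ hθ g, conjFun_eq_comp, Function.comp_apply, map_one, hdeg]
    have h1 := congrFun hmult ⟨h, hh⟩
    have h2 := congrFun hmult 1
    simp only [Finset.sum_apply, Pi.smul_apply, OneMemClass.coe_one] at h1 h2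
    rw [h1, h2]
    refine Finset.sum_congr rfl fun η _ => ?_
    by_cases h0 : mult η = 0
    · simp [h0]
    · rw [hcon η (Finset.mem_filter.2 ⟨Finset.mem_univ _, h0⟩)]
  · refine le_trans ?_ (sum_div_mono hdegle)
    rw [Subgroup.index_eq_card]
    let σ' : Representation ℂ (X ⧸ N) (Fin d → ℂ) := QuotientGroup.lift N σ le_rfl
    have hσ' : ∀ g : X, σ'.character (g : X ⧸ N) = ψ g := fun g => by rw [← hσ]; rfl
    refine Char.schur_bound (χ := σ'.character) ⟨d, σ', rfl⟩ ?_ (r := r) Nat.card_pos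
      (fun hd => hp.out.one_lt.ne' (Nat.eq_one_of_dvd_coprimes hH hd dvd_rfl)) ?_ ?_
    · intro q hq
      obtain ⟨g, rfl⟩ := QuotientGroup.mk_surjective q
      rw [QuotientGroup.eq_one_iff]
      rw [hσ', ← QuotientGroup.mk_one, hσ', ← hσ, Representation.char_one,
        Char.character_eq_degree_iff] at hq
      exact hq
    · intro q
      obtain ⟨g, rfl⟩ := QuotientGroup.mk_surjective q
      rw [hσ']
      simp only [ψ, Finset.sum_apply]
      refine sum_mem fun θ _ => ?_
      rw [Char.indFun_apply]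
      refine mul_mem (inv_mem (natCast_mem _ _)) (sum_mem fun x _ => ?_)
      by_cases hx : x⁻¹ * g * x ∈ inertia H (θ : H → ℂ)
      · rw [Char.extendByZero_apply_mem _ _ hx]
        exact hφF θ _
      · rw [Char.extendByZero_of_notMem _ _ hx]
        exact zero_mem _
    · rw [← QuotientGroup.mk_one, hσ', hψ1]

end CfsgLib.PSolvSchur
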