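import Cfsg.Agent.Lib.PSolvSchur.Bound
import Cfsg.Agent.Lib.Solvable.Core
import Cfsg.Agent.Lib.Solvable.SchurZassenhaus
import Cfsg.Agent.Lib.PLocal.PSolvable
import Cfsg.Agent.Lib.Blocks82.HallHigman
import Mathlib

/-!
The index of `O_p` in a Sylow subgroup of a `p`-solvable linear group.
-/

set_option autoImplicit false
set_option linter.style.haveILetI false

namespace CfsgLib.PSolvSchur

open Cfsg CfsgLib
open scoped Pointwise

universe u

variable {G : Type u} [Group G] [Finite G] {p : ℕ} [hp : Fact p.Prime]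

/-- A complement of `O_p(G)` in `O_{p,p'}(G)` with a supplementing normaliser. -/
theorem exists_complement_normalizer (K : Subgroup G) [K.Normal] (hK : IsPGroup p K)
    (M : Subgroup G) [M.Normal] (hKM : K ≤ M) (hidx : (K.subgroupOf M).index.Coprime p) :
    ∃ H : Subgroup G, H ≤ M ∧ H ⊔ K = M ∧ (Nat.card H).Coprime p ∧
      Subgroup.normalizer (H : Set G) ⊔ K = ⊤ := by
  obtain ⟨k, hk⟩ := IsPGroup.iff_card.1 hK
  have hcard : Nat.card (K.subgroupOf M) = Nat.card K :=
    Nat.card_congr (Subgroup.subgroupOfEquivOfLe hKM).toEquiv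
  have hcop : (Nat.card (K.subgroupOf M)).Coprime (K.subgroupOf M).index := by
    rw [hcard, hk]; exact (hidx.pow_right k).symm
  obtain ⟨H₀, hH₀⟩ := Subgroup.exists_right_complement'_of_coprime hcop
  set H := H₀.map M.subtype with hHdef
  have hHcard : Nat.card H = Nat.card H₀ :=
    (Nat.card_congr (H₀.equivMapOfInjective _ M.subtype_injective).toEquiv).symm
  have hHcop : (Nat.card H).Coprime p := by
    rw [hHcard, ← hH₀.symm.index_eq_card]; exact hidx
  have hHM : H ≤ M := Subgroup.map_subtype_le _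
  have hsup : H ⊔ K = M := by
    rw [← Subgroup.map_subgroupOf_eq_of_le hKM, hHdef, ← Subgroup.map_sup, sup_comm,
      hH₀.sup_eq_top, ← MonoidHom.range_eq_map, Subgroup.range_subtype]
  haveI : Group.IsNilpotent K := hK.isNilpotent
  refine ⟨H, hHM, hsup, hHcop, ?_⟩
  rw [eq_top_iff]
  intro g _
  obtain ⟨a, ha, hconj⟩ := Solvable.exists_conj_eq_of_coprime (N := K) (B := H)
    (B' := MulAut.conj g • H) Subgroup.le_normalizer_of_normal
    (by
      rw [sup_comm, hsup]
      rintro x hx
      obtain ⟨y, hy, rfl⟩ := hx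
      exact Subgroup.Normal.conj_mem inferInstance y (hHM hy) g)
    (Nat.card_congr (Subgroup.equivSMul _ H).toEquiv).symm
    (by rw [hk]; exact (hHcop.pow_right k).symm) (Or.inl inferInstance)
  have hn : a⁻¹ * g ∈ Subgroup.normalizer (H : Set G) := by
    refine Solvable.conj_smul_eq_self_iff.1 ?_
    rw [map_mul, mul_smul, ← hconj, smul_smul, ← map_mul, inv_mul_cancel, map_one, one_smul]
  rw [show g = a * (a⁻¹ * g) by group]
  exact mul_mem (Subgroup.mem_sup_right ha) (Subgroup.mem_sup_left hn)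

/-- The bound for `p`-solvable linear groups. -/
theorem index_pCore_bound (hsolv : IsPSolvable p G) {χ : G → ℂ} (hχ : IsCharacter G χ)
    (hfaith : ∀ g : G, χ g = χ 1 → g = 1) {n : ℕ} (hn : χ 1 = n) :
    ((pCore p G).index).factorization p ≤
      ∑ i ∈ Finset.range (n + 1), n / ((p - 1) * p ^ i) := by
  haveI hKn := Solvable.pCore_normal p G
  set K := pCore p G with hKdef
  have hKp : IsPGroup p K := Solvable.pCore_isPGroup p G
  have hO : pCore p (G ⧸ K) = ⊥ := Solvable.pCore_quotient_eq_bot K rfl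
  have hC := PLocal.centralizer_pPrimeCore_le_self
    (Blocks82.isPSolvable_quotient hsolv K) hO
  haveI := Solvable.pPrimeCore_normal p (G ⧸ K)
  set Mb := pPrimeCore p (G ⧸ K) with hMb
  have hMbc : (Nat.card Mb).Coprime p := Solvable.pPrimeCore_card_coprime p (G ⧸ K)
  set M := Mb.comap (QuotientGroup.mk' K) with hM
  have hKM : K ≤ M := fun x hx => by
    show (QuotientGroup.mk' K x) ∈ Mb
    rw [QuotientGroup.mk'_apply, (QuotientGroup.eq_one_iff x).2 hx]
    exact Mb.one_mem
  have hmapM : M.map (QuotientGroup.mk' K) = Mb :=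
    Subgroup.map_comap_eq_self_of_surjective (QuotientGroup.mk'_surjective K) _
  have hidx : (K.subgroupOf M).index.Coprime p := by
    have h1 : (K.subgroupOf M) = ((QuotientGroup.mk' K).comp M.subtype).ker := by
      ext x; simp [Subgroup.mem_subgroupOf]
    rw [h1, Subgroup.index_ker, MonoidHom.range_comp, Subgroup.range_subtype, hmapM]
    exact hMbc
  obtain ⟨H, hHM, hsup, hHcop, hnorm⟩ := exists_complement_normalizer K hKp M hKM hidx
  set N₀ := Subgroup.normalizer (H : Set G) with hN₀
  have hmapH : H.map (QuotientGroup.mk' K) = Mb := by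
    rw [← hmapM, ← hsup, Subgroup.map_sup,
      (Subgroup.map_eq_bot_iff K).2 (QuotientGroup.ker_mk' K).ge, sup_bot_eq]
  let f : N₀ →* G ⧸ K := (QuotientGroup.mk' K).comp N₀.subtype
  have hf : Function.Surjective f := by
    rw [← MonoidHom.range_eq_top, MonoidHom.range_comp, Subgroup.range_subtype, ← top_le_iff]
    intro q _
    obtain ⟨g, rfl⟩ := QuotientGroup.mk_surjective q
    have hg : g ∈ N₀ ⊔ K := hnorm ▸ Subgroup.mem_top g
    obtain ⟨a, ha, b, hb, rfl⟩ := Subgroup.mem_sup_of_normal_right.1 hg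
    exact ⟨a, ha, by simp [(QuotientGroup.eq_one_iff b).2 hb]⟩
  obtain ⟨S⟩ : Nonempty (Sylow p N₀) := inferInstance
  set H' := H.subgroupOf N₀ with hH'
  haveI : H'.Normal := Subgroup.normal_in_normalizer
  set X : Subgroup N₀ := (S : Subgroup N₀) ⊔ H' with hX
  set HX := H'.subgroupOf X with hHX
  haveI : HX.Normal := Subgroup.Normal.subgroupOf inferInstance X
  have hHXc : Nat.card HX = Nat.card H := by
    rw [hHX, Nat.card_congr (Subgroup.subgroupOfEquivOfLe (le_sup_right : H' ≤ X)).toEquiv,
      Nat.card_congr (Subgroup.subgroupOfEquivOfLe (Subgroup.le_normalizer (H := H))).toEquiv]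
  obtain ⟨m, hm⟩ : ∃ m, HX.index = p ^ m := by
    have h1 : HX.index ∣ Nat.card (S : Subgroup N₀) := by
      rw [hHX, ← Subgroup.relIndex, hX, Subgroup.relIndex_sup_right]
      exact Subgroup.relIndex_dvd_card _ _
    rw [S.card_eq_multiplicity] at h1
    obtain ⟨m, -, hm⟩ := (Nat.dvd_prime_pow hp.out).1 h1
    exact ⟨m, hm⟩
  obtain ⟨N, hN, hdisj, hbound⟩ := exists_normal_bound (p := p) HX hm (by rw [hHXc]; exact hHcop)
    (χ := fun x : X => χ ((x : N₀) : G))
    (CharTwist.isCharacter_comp hχ (N₀.subtype.comp X.subtype))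
    (fun x _ hx => Subtype.ext (Subtype.ext (hfaith _ hx))) (n := n) (by simpa using hn)
  refine le_trans ?_ hbound
  let g : X →* G ⧸ K := f.comp X.subtype
  have hgH : HX.map g = Mb := by
    rw [← hmapH]
    ext q
    constructor
    · rintro ⟨x, hx, rfl⟩
      exact ⟨((x : N₀) : G), hx, rfl⟩
    · rintro ⟨h, hh, rfl⟩
      exact ⟨⟨⟨h, Subgroup.le_normalizer hh⟩, Subgroup.mem_sup_right hh⟩, hh, rfl⟩
  -- the kernel lies in `O_p`
  have hNker : N ≤ g.ker := by
    haveI := hN
    have hcomm : ∀ x ∈ N, ∀ h ∈ HX, h * x = x * h := fun x hx h hh =>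
      Subgroup.commute_of_normal_of_disjoint HX N inferInstance inferInstance
        (disjoint_iff.2 hdisj) h x hh hx
    have hNp : IsPGroup p N := by
      have h1 : Nat.card N ∣ HX.index := by
        have h2 : HX.relIndex N ∣ HX.index := Subgroup.relIndex_dvd_index_of_normal HX N
        rwa [← Subgroup.inf_relIndex_right, hdisj, Subgroup.relIndex_bot_left] at h2
      rw [hm] at h1
      obtain ⟨j, -, hj⟩ := (Nat.dvd_prime_pow hp.out).1 h1
      exact IsPGroup.of_card hj
    intro x hx
    have hmem : g x ∈ Subgroup.centralizer (Mb : Set (G ⧸ K)) := by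
      rw [← hgH, Subgroup.mem_centralizer_iff]
      rintro _ ⟨h, hh, rfl⟩
      rw [← map_mul, ← map_mul, hcomm x hx h hh]
    have h1 := hC hmem
    obtain ⟨j, hj⟩ := IsPGroup.iff_orderOf.1 hNp ⟨x, hx⟩
    have h2 : orderOf (g x) ∣ p ^ j := by
      rw [← hj, ← Subgroup.orderOf_coe]
      exact orderOf_map_dvd g x
    have h3 : orderOf (g x) ∣ Nat.card Mb := Subgroup.orderOf_dvd_natCard _ h1
    exact orderOf_eq_one_iff.1 (Nat.eq_one_of_dvd_coprimes (hMbc.pow_right j) h3 h2)
  calc K.index.factorization p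
      = (Nat.card ((S.mapSurjective hf : Sylow p (G ⧸ K)) : Subgroup (G ⧸ K))).factorization p := by
        rw [Sylow.card_eq_multiplicity, hp.out.factorization_pow, Finsupp.single_eq_same,
          Subgroup.index_eq_card]
    _ ≤ (Nat.card g.range).factorization p := by
        refine (Nat.factorization_le_iff_dvd Nat.card_pos.ne' Nat.card_pos.ne').2
          (Subgroup.card_dvd_of_le ?_) p
        rw [Sylow.coe_mapSurjective, MonoidHom.range_comp, Subgroup.range_subtype]
        exact Subgroup.map_mono le_sup_left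
    _ ≤ N.index.factorization p := by
        refine (Nat.factorization_le_iff_dvd Nat.card_pos.ne'
          Subgroup.index_ne_zero_of_finite).2 ?_ p
        rw [← Subgroup.index_ker]
        exact Subgroup.index_dvd_of_le hNker

end CfsgLib.PSolvSchur
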